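import Mathlib
import Groth.Prelude.Def_GrLC2
import Groth.Agent.Lib.Helper8.ExtLoc4
import Groth.Agent.Lib.Helper8.ABS4
import Groth.Agent.Lib.Helper6.Bass0.BZd
import Groth.Agent.Lib.Helper6.Bass0.BZf
import Groth.Agent.Lib.Helper6.BassNG.BNd

set_option autoImplicit false
set_option linter.unusedSectionVars false
set_option linter.unusedVariables false
set_option linter.unusedSimpArgs false
set_option linter.style.haveILetI false
set_option maxHeartbeats 400000

/-!
# Vanishing of Bass numbers and vanishing of `Ext`

Over a Noetherian ring, if `Ext^n_{R_p}(k(p), M_p) = 0` for all primes `p`, then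
`Ext^n_R(N, M) = 0` for all finitely generated `N`.
-/

universe u

namespace Groth.Agent.Lib.Helper6.BassV

open CategoryTheory Abelian IsLocalRing Groth.Agent.Helper8.ExtLoc
  Groth.Agent.Lib.Helper6.Bass0 Groth.Agent.Lib.Helper6.BassNG

variable {R : Type u} [CommRing R] [IsNoetherianRing R] (M : Type u) [AddCommGroup M] [Module R M]

/-- vanishing on cyclic modules `R/p` for the primes of a set `W` gives vanishing on all finitely
generated modules supported in `W` -/
theorem extVan_of_support_subset (n : ℕ) (W : Set (PrimeSpectrum R))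
    (hW : ∀ p ∈ W, ExtVan R M n (R ⧸ p.asIdeal)) (N : Type u) [AddCommGroup N] [Module R N]
    [hN : Module.Finite R N] (hsupp : Module.support R N ⊆ W) : ExtVan R M n N := by
  revert hsupp
  induction hN using IsNoetherianRing.induction_on_isQuotientEquivQuotientPrime R with
  | subsingleton X =>
    intro _
    exact ExtVan.of_subsingleton n X
  | quotient X p e =>
    intro hsupp
    have hp : p ∈ Module.support R X := by
      rw [e.support_eq, Module.support_eq_zeroLocus, Ideal.annihilator_quotient,
        PrimeSpectrum.mem_zeroLocus]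
    exact (hW p (hsupp hp)).of_equiv e.symm
  | exact X₁ X₂ X₃ f g hf hg hfg h₁ h₃ =>
    intro hsupp
    have hs := Module.support_of_exact hfg hf hg
    exact ExtVan.middle f g hf hg hfg
      (h₁ (fun x hx => hsupp (hs ▸ Or.inl hx))) (h₃ (fun x hx => hsupp (hs ▸ Or.inr hx)))

section MulInj

variable (p : Ideal R) [hp : p.IsPrime] (s : R)

/-- the first map of `scR` is multiplication by `s` -/
theorem scR_f_eq : (scR p s).f = s • 𝟙 (ModuleCat.of R (R ⧸ p)) := by
  apply ModuleCat.hom_ext
  apply LinearMap.ext
  intro x
  rfl

include hp in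
/-- multiplication by `s ∉ p` is injective on `Ext^n(R/p, M)` when `Ext^n(R/(p + (s)), M) = 0` -/
theorem eq_zero_of_smul_eq_zero (hs : s ∉ p) (n : ℕ) (hvan : ExtVan R M n (R ⧸ Jid p s))
    (x : Ext (ModuleCat.of R (R ⧸ p)) (ModuleCat.of R M) n) (hx : s • x = 0) : x = 0 := by
  have hS := scR_shortExact p s hs
  have h1 : (Ext.mk₀ (scR p s).f).comp
      (show Ext (scR p s).X₂ (ModuleCat.of R M) n from x) (zero_add n) = 0 := by
    rw [scR_f_eq]
    exact (smul_id_comp s x).trans hx
  obtain ⟨x₃, hx₃⟩ := Ext.contravariant_sequence_exact₂ hS (ModuleCat.of R M) _ h1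
  have : x₃ = 0 := (extVan_iff.mp hvan) x₃
  rw [this, Ext.comp_zero] at hx₃
  exact hx₃.symm

end MulInj

section Main

variable (n : ℕ)

/-- **Vanishing of the `n`-th Bass numbers implies vanishing of `Ext^n(R/p, M)`.** -/
theorem extVan_quotient_prime_of_extK
    (h : ∀ (p : Ideal R) [p.IsPrime], Subsingleton (ExtK p M n)) :
    ∀ (p : Ideal R), p.IsPrime → ExtVan R M n (R ⧸ p) := by
  intro p
  induction p using WellFoundedGT.induction with
  | ind p ih =>
    intro hp
    rw [extVan_iff]
    intro x
    -- `x` is killed by some `s ∉ p`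
    have hloc : Subsingleton (Ext ((locF p.primeCompl).obj (ModuleCat.of R (R ⧸ p)))
        ((locF p.primeCompl).obj (ModuleCat.of R M)) n) := by
      obtain ⟨e⟩ := nonempty_residue_equiv_localizedModule_quotient p
      have h1 : ExtVan (Localization.AtPrime p) (LocalizedModule p.primeCompl M) n
          (ResidueField (Localization.AtPrime p)) := h p
      exact h1.of_equiv e
    obtain ⟨s, hs⟩ := (subsingleton_ext_loc_iff p.primeCompl n (R ⧸ p) M).mp hloc x
    -- vanishing for `R/(p + (s))`
    have hvan : ExtVan R M n (R ⧸ Jid p (s : R)) := by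
      apply extVan_of_support_subset M n {p' | p < p'.asIdeal}
      · intro p' hp'
        exact ih p'.asIdeal hp' p'.2
      · intro p' hp'
        rw [Module.support_eq_zeroLocus, Ideal.annihilator_quotient,
          PrimeSpectrum.mem_zeroLocus] at hp'
        replace hp' : Jid p (s : R) ≤ p'.asIdeal := hp'
        refine lt_of_le_of_ne (le_trans le_sup_left hp') ?_
        intro heq
        have hsp : (s : R) ∈ p'.asIdeal :=
          hp' ((le_sup_right : Ideal.span {(s : R)} ≤ Jid p (s : R))
            (Ideal.mem_span_singleton_self _))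
        rw [← heq] at hsp
        exact s.2 hsp
    exact eq_zero_of_smul_eq_zero M p (s : R) s.2 n hvan x hs

/-- **Vanishing of the `n`-th Bass numbers implies vanishing of `Ext^n(N, M)` for all finitely
generated `N`.** -/
theorem extVan_of_extK (h : ∀ (p : Ideal R) [p.IsPrime], Subsingleton (ExtK p M n))
    (N : Type u) [AddCommGroup N] [Module R N] [Module.Finite R N] : ExtVan R M n N :=
  extVan_of_support_subset M n Set.univ
    (fun p _ => extVan_quotient_prime_of_extK M n h p.asIdeal p.2) N (Set.subset_univ _)

/-- if all first Bass numbers vanish, the module is injective -/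
theorem injective_of_extK_one (h : ∀ (p : Ideal R) [p.IsPrime], Subsingleton (ExtK p M 1)) :
    Module.Injective R M :=
  (Groth.Agent.Helper8.ABS.baer_of_ext_one R M
    (fun I => extVan_of_extK M 1 h (R ⧸ I))).injective

/-- if all second Bass numbers vanish, the module has injective dimension at most one -/
theorem hasInjectiveDimensionLT_two_of_extK
    (h : ∀ (p : Ideal R) [p.IsPrime], Subsingleton (ExtK p M 2)) :
    HasInjectiveDimensionLT (ModuleCat.of R M) 2 :=
  Groth.Agent.Helper8.ABS.hasInjectiveDimensionLT_of_forall_ideal R 1 M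
    (fun I => extVan_of_extK M 2 h (R ⧸ I))

end Main

end Groth.Agent.Lib.Helper6.BassV
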