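import Mathlib
import Groth.Prelude.Def_GrLC2
import Groth.Prelude.Def_Wider
import Groth.Agent.Lib.Helper6.BassV.BVa
import Groth.Agent.Lib.Helper6.BassNG.BNh

set_option autoImplicit false
set_option linter.unusedSectionVars false
set_option linter.unusedVariables false
set_option linter.unusedSimpArgs false
set_option linter.style.haveILetI false
set_option maxHeartbeats 400000

/-!
# The ordinary injective dimension of a *-injective module over a `ℤ`-graded Noetherian ring
-/

universe u

namespace Groth.Agent.Lib.Helper6.BassV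

open CategoryTheory Abelian IsLocalRing DirectSum Groth.Agent.Helper8.ExtLoc
  Groth.Agent.Lib.Helper6.Bass0 Groth.Agent.Lib.Helper6.BassNG Groth.Agent.Lib.Helper6.GrHt
  Groth.Agent.Helper9.GrLCLib

section Ass

variable {R : Type u} [CommRing R] [IsNoetherianRing R] (p : Ideal R) [hp : p.IsPrime]
  (M : Type u) [AddCommGroup M] [Module R M]

theorem bassNum_eq_zero_iff_subsingleton (i : ℕ) :
    GrLC.bassNum p M i = 0 ↔ Subsingleton (ExtK p M i) := by
  rw [bassNum_eq_length]
  exact Module.length_eq_zero_iff

/-- `μ_0(p, M) ≠ 0` iff `p` is an associated prime of `M` -/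
theorem bassNum_zero_ne_zero_iff :
    GrLC.bassNum p M 0 ≠ 0 ↔ p ∈ associatedPrimes R M := by
  unfold GrLC.bassNum
  rw [bassNumLocal_zero, Ne, Module.length_eq_zero_iff, not_subsingleton_iff_nontrivial]
  constructor
  · intro hnt
    obtain ⟨⟨y, hy⟩, hy0⟩ := exists_ne (0 : soc (Localization.AtPrime p)
      (LocalizedModule p.primeCompl M))
    have hy0' : y ≠ 0 := fun h => hy0 (Subtype.ext h)
    induction y using LocalizedModule.induction_on with
    | h x t =>
      obtain ⟨u, hu, hux⟩ := exists_smul_eq_zero_of_mem_soc p M (IsNoetherian.noetherian p) hy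
      refine (isAssociatedPrime_iff).2 ⟨hp, u • x, ?_⟩
      ext r
      rw [Submodule.mem_colon_singleton, Submodule.mem_bot]
      constructor
      · intro hr
        exact hux r hr
      · intro hr
        by_contra hrp
        apply hy0'
        rw [← LocalizedModule.zero_mk t, LocalizedModule.mk_eq]
        refine ⟨⟨r * u, fun h => (hp.mem_or_mem h).elim hrp hu⟩, ?_⟩
        simp only [Submonoid.smul_def, smul_zero]
        rw [smul_comm, mul_smul, hr, smul_zero]
  · intro hass
    obtain ⟨_, x, hx⟩ := (isAssociatedPrime_iff).1 hass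
    have hmem : ∀ r : R, r ∈ p ↔ r • x = 0 := by
      intro r
      rw [hx, Submodule.mem_colon_singleton, Submodule.mem_bot]
    have hsoc : (LocalizedModule.mk x 1 : LocalizedModule p.primeCompl M) ∈
        soc (Localization.AtPrime p) (LocalizedModule p.primeCompl M) :=
      fun b hb => smul_mk_eq_zero_of_mem p M hb (fun a ha => (hmem a).mp ha) 1
    refine ⟨⟨⟨_, hsoc⟩, 0, ?_⟩⟩
    intro h0
    have h1 : (LocalizedModule.mk x 1 : LocalizedModule p.primeCompl M) = 0 :=
      congrArg Subtype.val h0
    rw [← LocalizedModule.zero_mk 1, LocalizedModule.mk_eq] at h1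
    obtain ⟨u, hu⟩ := h1
    have : (u : R) • x = 0 := by simpa [Submonoid.smul_def] using hu
    exact u.2 ((hmem _).mpr this)

end Ass

section StarInj

variable {R : Type u} [CommRing R] [IsNoetherianRing R] (ℬ : ℤ → AddSubgroup R) [GradedRing ℬ]
  {M : Type u} [AddCommGroup M] [Module R M] (ℳ : ℤ → AddSubgroup M)
  [DirectSum.Decomposition ℳ] [SetLike.GradedSMul ℬ ℳ] (hM : GrLC.IsStarInj ℬ ℳ)

include ℳ hM in
/-- higher Bass numbers of a *-injective module vanish at homogeneous primes -/
theorem extK_subsingleton_of_isStarInj_of_isHomogeneous (p : Ideal R) [hp : p.IsPrime]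
    (hph : p.IsHomogeneous ℬ) (j : ℕ) : Subsingleton (ExtK p M (j + 1)) :=
  extK_subsingleton_of_extVan p M (j + 1) ((extVan_of_isStarInj ℬ ℳ hM j).1 p hph)

include ℳ hM in
/-- the Bass numbers `μ_j`, `j ≥ 2`, of a *-injective module vanish -/
theorem extK_subsingleton_of_isStarInj (p : Ideal R) [hp : p.IsPrime] (j : ℕ) :
    Subsingleton (ExtK p M (j + 2)) := by
  by_cases hph : p.IsHomogeneous ℬ
  · exact extK_subsingleton_of_isStarInj_of_isHomogeneous ℬ ℳ hM p hph (j + 1)
  · haveI := core_isPrime ℬ p
    rw [← bassNum_eq_zero_iff_subsingleton, bassNum_succ_eq_core ℬ p hph ℳ (j + 1),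
      bassNum_eq_zero_iff_subsingleton]
    exact extK_subsingleton_of_isStarInj_of_isHomogeneous ℬ ℳ hM (core ℬ p)
      (core_isHomogeneous ℬ p) j

include ℳ hM in
/-- **A *-injective module has injective dimension at most one.** -/
theorem hasInjectiveDimensionLT_two_of_isStarInj :
    HasInjectiveDimensionLT (ModuleCat.of R M) 2 :=
  hasInjectiveDimensionLT_two_of_extK M
    (fun p _ => extK_subsingleton_of_isStarInj ℬ ℳ hM p 0)

include ℳ hM in
/-- **Failure of injectivity of a *-injective module.** -/
theorem not_injective_iff_of_isStarInj :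
    ¬ Module.Injective R M ↔ ∃ p : Ideal R, p.IsPrime ∧ ¬ p.IsHomogeneous ℬ ∧
      core ℬ p ∈ associatedPrimes R M := by
  constructor
  · intro hni
    by_contra hcon
    apply hni
    apply injective_of_extK_one M
    intro p hp
    by_cases hph : p.IsHomogeneous ℬ
    · exact extK_subsingleton_of_isStarInj_of_isHomogeneous ℬ ℳ hM p hph 0
    · haveI := core_isPrime ℬ p
      rw [← bassNum_eq_zero_iff_subsingleton, bassNum_succ_eq_core ℬ p hph ℳ 0]
      by_contra hne
      exact hcon ⟨p, hp, hph, (bassNum_zero_ne_zero_iff (core ℬ p) M).mp hne⟩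
  · rintro ⟨p, hp, hph, hass⟩ hinj
    haveI := core_isPrime ℬ p
    have hI : CategoryTheory.Injective (ModuleCat.of R M) :=
      Module.injective_object_of_injective_module R M
    have hvan : ExtVan R M 1 (R ⧸ p) := by
      rw [extVan_iff]
      intro z
      exact Ext.eq_zero_of_injective z
    have h1 : Subsingleton (ExtK p M 1) := extK_subsingleton_of_extVan p M 1 hvan
    rw [← bassNum_eq_zero_iff_subsingleton, bassNum_succ_eq_core ℬ p hph ℳ 0] at h1
    exact (bassNum_zero_ne_zero_iff (core ℬ p) M).mpr hass h1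

end StarInj

end Groth.Agent.Lib.Helper6.BassV
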