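import Mathlib
import Groth.Prelude.Def_GrLC2
import Groth.Prelude.Def_Wider
import Groth.Agent.Lib.Helper6.BassV.BVb

set_option autoImplicit false
set_option linter.unusedSectionVars false
set_option linter.unusedVariables false
set_option linter.unusedSimpArgs false
set_option linter.style.haveILetI false
set_option maxHeartbeats 400000

/-!
# The *-injective envelope of `R/m`, `m` a homogeneous maximal ideal, is the injective hull
-/

universe u

namespace Groth.Agent.Lib.Helper6.BassV

open CategoryTheory Abelian IsLocalRing DirectSum Groth.Agent.Helper8.ExtLoc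
  Groth.Agent.Lib.Helper6.Bass0 Groth.Agent.Lib.Helper6.BassNG Groth.Agent.Lib.Helper6.GrHt
  Groth.Agent.Helper9.GrLCLib

variable {R : Type u} [CommRing R] [IsNoetherianRing R] (ℬ : ℤ → AddSubgroup R) [GradedRing ℬ]
  (m : HomogeneousIdeal ℬ) [hm : m.toIdeal.IsMaximal]
  {E' : Type u} [AddCommGroup E'] [Module R E'] (𝓔 : ℤ → AddSubgroup E')
  [DirectSum.Decomposition 𝓔] [SetLike.GradedSMul ℬ 𝓔]
  (e : (R ⧸ m.toIdeal) →ₗ[R] E') (he : GrLC.IsStarInjHull ℬ (GrLC.quotGr ℬ m) 𝓔 e)

include he in
theorem range_eq_span_of_quotient : LinearMap.range e = Submodule.span R {e 1} := by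
  apply le_antisymm
  · rintro _ ⟨x, rfl⟩
    obtain ⟨r, rfl⟩ := Ideal.Quotient.mk_surjective x
    have : (Ideal.Quotient.mk m.toIdeal r) = r • (1 : R ⧸ m.toIdeal) := by
      rw [Algebra.smul_def, mul_one]
      rfl
    rw [this, map_smul]
    exact Submodule.smul_mem _ _ (Submodule.mem_span_singleton_self _)
  · rw [Submodule.span_singleton_le_iff_mem]
    exact ⟨1, rfl⟩

include he in
theorem range_isHomogeneous_of_quotient : (LinearMap.range e).IsHomogeneous 𝓔 := by
  rw [range_eq_span_of_quotient ℬ m 𝓔 e he]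
  have h1 : (1 : R ⧸ m.toIdeal) ∈ GrLC.quotGr ℬ m 0 :=
    ⟨1, (SetLike.GradedOne.one_mem : (1 : R) ∈ ℬ 0), rfl⟩
  exact Groth.Agent.Lib.Helper6.Bass0.span_singleton_isHomogeneous ℬ 𝓔 (he.grHom 0 1 h1)

include he in
theorem essential_of_quotient (x : E') (hx : x ≠ 0) :
    ∃ b : R, b • x ∈ LinearMap.range e ∧ b • x ≠ 0 :=
  exists_smul_mem_of_starEss ℬ 𝓔 (top_isHomogeneous 𝓔)
    (range_isHomogeneous_of_quotient ℬ m 𝓔 e he)
    (fun Q hQ _ hne => he.essential Q hQ hne) (Submodule.mem_top : x ∈ ⊤) hx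

include he hm in
/-- **The *-injective envelope of `R/m` is an injective hull.** -/
theorem isInjectiveHull_of_isStarInjHull_quotient : InjHull.IsInjectiveHull e := by
  have hess := essential_of_quotient ℬ m 𝓔 e he
  refine { injective := he.injective, essential := ?_, isInjective := ?_ }
  · intro N hN
    obtain ⟨x, hxN, hx0⟩ := Submodule.exists_mem_ne_zero_of_ne_bot hN
    obtain ⟨b, hb, hb0⟩ := hess x hx0
    intro hbot
    have : b • x ∈ N ⊓ LinearMap.range e := ⟨N.smul_mem b hxN, hb⟩
    rw [hbot, Submodule.mem_bot] at this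
    exact hb0 this
  · apply injective_of_extK_one E'
    intro p hp
    by_cases hph : p.IsHomogeneous ℬ
    · exact extK_subsingleton_of_isStarInj_of_isHomogeneous ℬ 𝓔 he.starInj p hph 0
    · haveI hq := core_isPrime ℬ p
      rw [← bassNum_eq_zero_iff_subsingleton, bassNum_succ_eq_core ℬ p hph 𝓔 0,
        ← bassNum_zero_eq_of_essential (core ℬ p) e he.injective hess]
      by_contra hne
      have hass := (bassNum_zero_ne_zero_iff (core ℬ p) (R ⧸ m.toIdeal)).mp hne
      obtain ⟨_, x, hx⟩ := (isAssociatedPrime_iff).1 hass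
      have hle : m.toIdeal ≤ core ℬ p := by
        intro r hr
        rw [hx, Submodule.mem_colon_singleton, Submodule.mem_bot]
        obtain ⟨y, rfl⟩ := Ideal.Quotient.mk_surjective x
        rw [Algebra.smul_def]
        show Ideal.Quotient.mk m.toIdeal r * Ideal.Quotient.mk m.toIdeal y = 0
        rw [Ideal.Quotient.eq_zero_iff_mem.mpr hr, zero_mul]
      have hmp : m.toIdeal ≤ p := le_trans hle (core_le ℬ p)
      have hpm : p = m.toIdeal := (hm.eq_of_le hp.ne_top hmp).symm
      exact hph (hpm ▸ m.isHomogeneous)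

end Groth.Agent.Lib.Helper6.BassV
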